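import Groth.Prelude.Def_W4c5flasquetoriphsGLat
import Mathlib

/-!
Permutation lattices, flasque and coflasque resolutions over a finite group.
-/

open scoped Classical

namespace Groth.Agent.GLatRes

noncomputable section

variable {G : Type} [Group G]

/-- The permutation representation on functions. -/
def perm (ι : Type) [MulAction G ι] : Representation ℤ G (ι → ℤ) where
  toFun g := LinearMap.funLeft ℤ ℤ fun i => g⁻¹ • i
  map_one' := by ext f i; simp [LinearMap.funLeft]
  map_mul' g h := by ext f i; simp [LinearMap.funLeft, mul_smul]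

variable {ι : Type} [MulAction G ι]

@[simp] lemma perm_apply (g : G) (f : ι → ℤ) (i : ι) : perm (G := G) ι g f i = f (g⁻¹ • i) := rfl

lemma perm_single [DecidableEq ι] (g : G) (i : ι) : perm (G := G) ι g (Pi.single i (1 : ℤ)) = Pi.single (g • i) 1 := by
  ext j
  simp only [perm_apply, Pi.single_apply, inv_smul_eq_iff]

lemma isPermutation_perm [Finite ι] : GLat.IsPermutation (perm (G := G) ι) := by
  refine ⟨ι, Pi.basisFun ℤ ι, fun g i => ⟨g • i, ?_⟩⟩
  simp only [Pi.basisFun_apply, perm_single]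

section orbit

variable (H : Subgroup G)

/-- A representative of the `H`-orbit. -/
def orep (i : ι) : ι := (Quotient.mk (MulAction.orbitRel H ι) i).out

lemma orep_spec (i : ι) : ∃ h : H, (h : G) • orep H i = i := by
  have : MulAction.orbitRel H ι (orep H i) i := Quotient.exact (Quotient.out_eq _)
  obtain ⟨h, hh⟩ := MulAction.orbitRel_apply.1 this
  have hh' : (h : G) • i = orep H i := hh
  exact ⟨h⁻¹, by rw [← hh', Subgroup.coe_inv, inv_smul_smul]⟩

lemma orep_smul (h : H) (i : ι) : orep H ((h : G) • i) = orep H i := by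
  have : Quotient.mk (MulAction.orbitRel H ι) ((h : G) • i) = Quotient.mk _ i :=
    Quotient.sound (MulAction.orbitRel_apply.2 ⟨h, rfl⟩)
  rw [orep, this]; rfl

lemma orep_orep (i : ι) : orep H (orep H i) = orep H i := by
  rw [orep, orep, Quotient.out_eq]

variable [Finite G]

/-- Permutation modules have no `H¹`. -/
theorem coflasque_perm : GLat.IsCoflasque (perm (G := G) ι) := by
  intro H f hf
  choose h hh using orep_spec (ι := ι) H
  have hstab : ∀ (s : H) (r : ι), (s : G) • r = r → f s r = 0 := by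
    intro s r hs
    have hpow : ∀ n : ℕ, f (s ^ n) r = n * f s r := by
      intro n
      induction n with
      | zero =>
        have := congrFun (hf 1 1) r
        simp only [one_mul, Pi.add_apply, perm_apply, Subgroup.coe_one, inv_one, one_smul] at this
        rw [pow_zero, Nat.cast_zero, zero_mul]
        omega
      | succ n ih =>
        rw [pow_succ', hf, Pi.add_apply, perm_apply, show ((s : G))⁻¹ • r = r by rw [inv_smul_eq_iff, hs], ih]
        push_cast; ring
    have h1 := hpow (orderOf s)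
    rw [pow_orderOf_eq_one, ← pow_zero s, hpow 0] at h1
    simp only [Nat.cast_zero, zero_mul] at h1
    exact (mul_eq_zero.1 h1.symm).resolve_left (by exact_mod_cast (orderOf_pos s).ne')
  refine ⟨fun j => -f (h j) j, fun a => funext fun j => ?_⟩
  simp only [Pi.sub_apply, perm_apply, sub_neg_eq_add]
  set j' := (a : G)⁻¹ • j with hj'
  have hr : orep H j' = orep H j := by
    have := orep_smul H a⁻¹ j
    rwa [Subgroup.coe_inv] at this
  have hmem : (((h j)⁻¹ * (a * h j') : H) : G) • orep H j = orep H j := by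
    simp only [Subgroup.coe_mul, Subgroup.coe_inv, mul_smul]
    rw [← hr, hh, hr, hj', smul_inv_smul, inv_smul_eq_iff, hh]
  have h0 := hstab _ _ hmem
  have h1 := congrFun (hf a (h j')) j
  have h2 := congrFun (hf (h j) ((h j)⁻¹ * (a * h j'))) j
  rw [mul_inv_cancel_left] at h2
  simp only [Pi.add_apply, perm_apply] at h1 h2
  rw [inv_smul_eq_iff.2 (hh j).symm, h0, add_zero] at h2
  rw [← hj'] at h1
  omega

/-- The norm over `H` of an element of the augmentation vanishes. -/
lemma norm_aug {M : Type} [AddCommGroup M] (ρ : Representation ℤ G M) (h : H) (y : M) :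
    ∑ᶠ k : H, ρ (k : G) (ρ (h : G) y - y) = 0 := by
  haveI : Fintype H := Fintype.ofFinite H
  rw [finsum_eq_sum_of_fintype]
  simp only [map_sub, Finset.sum_sub_distrib, ← Module.End.mul_apply, ← map_mul, ← Subgroup.coe_mul]
  exact sub_eq_zero.2 (Equiv.sum_comp (Equiv.mulRight h) (fun k : H => ρ (k : G) y))

lemma norm_zero_of_mem {M : Type} [AddCommGroup M] (ρ : Representation ℤ G M) {z : M}
    (hz : z ∈ Submodule.span ℤ {x : M | ∃ (h : H) (y : M), x = ρ (h : G) y - y}) :
    ∑ᶠ k : H, ρ (k : G) z = 0 := by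
  haveI : Fintype H := Fintype.ofFinite H
  rw [finsum_eq_sum_of_fintype]
  induction hz using Submodule.span_induction with
  | mem x hx =>
    obtain ⟨h, y, rfl⟩ := hx
    rw [← finsum_eq_sum_of_fintype]
    exact norm_aug H ρ h y
  | zero => simp
  | add x y _ _ hx hy => simp [Finset.sum_add_distrib, hx, hy]
  | smul c x _ hx => simp only [map_zsmul, ← Finset.smul_sum, hx, smul_zero]

variable [Finite ι]

theorem flasque_perm : GLat.IsFlasque (perm (G := G) ι) := by
  intro H m hm
  haveI : Fintype H := Fintype.ofFinite H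
  haveI : Fintype ι := Fintype.ofFinite ι
  choose h hh using orep_spec (ι := ι) H
  set S := Submodule.span ℤ {x : ι → ℤ | ∃ (h : H) (y : ι → ℤ), x = perm (G := G) ι (h : G) y - y}
  let z : ι → ℤ := ∑ j, m j • Pi.single (orep H j) (1 : ℤ)
  have hsub : m - z ∈ S := by
    have : m - z = ∑ j, m j • (perm (G := G) ι (h j : G) (Pi.single (orep H j) (1 : ℤ)) - Pi.single (orep H j) 1) := by
      simp only [smul_sub, Finset.sum_sub_distrib, perm_single, hh, z]
      congr 1
      exact pi_eq_sum_univ' m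
    rw [this]
    exact Submodule.sum_mem _ fun j _ => Submodule.smul_mem _ _ (Submodule.subset_span ⟨h j, _, rfl⟩)
  have hz : ∑ k : H, perm (G := G) ι (k : G) z = 0 := by
    have := norm_zero_of_mem H _ hsub
    rw [finsum_eq_sum_of_fintype] at this hm
    simp only [map_sub, Finset.sum_sub_distrib, hm, zero_sub, neg_eq_zero] at this
    exact this
  have hsupp : ∀ i, orep H i ≠ i → z i = 0 := by
    intro i hi
    simp only [z, Finset.sum_apply, Pi.smul_apply, smul_eq_mul]
    refine Finset.sum_eq_zero fun j _ => ?_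
    rw [Pi.single_eq_of_ne (fun h => hi (by rw [h, orep_orep])), mul_zero]
  have hz0 : z = 0 := by
    funext r
    by_cases hr : orep H r = r
    swap
    · exact hsupp r hr
    have h1 := congrFun hz r
    simp only [Finset.sum_apply, perm_apply, Pi.zero_apply] at h1
    have h2 : ∀ k : H, z ((k : G)⁻¹ • r) = if (k : G)⁻¹ • r = r then z r else 0 := by
      intro k
      split_ifs with hk
      · rw [hk]
      · refine hsupp _ fun h' => hk ?_
        rw [← h', ← Subgroup.coe_inv, orep_smul, hr]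
    simp only [h2, Finset.sum_ite, Finset.sum_const_zero, add_zero, Finset.sum_const, nsmul_eq_mul] at h1
    refine (mul_eq_zero.1 h1).resolve_left ?_
    have : (Finset.univ.filter fun k : H => (k : G)⁻¹ • r = r).Nonempty := ⟨1, by simp⟩
    exact_mod_cast (Finset.card_pos.2 this).ne'
  rwa [hz0, sub_zero] at hsub

end orbit

variable [Finite G]

/-- A permutation cover which is surjective on all invariants. -/
theorem exists_cover {B : Type} [AddCommGroup B] [Module.Finite ℤ B] (ρ : Representation ℤ G B) :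
    ∃ (ι : Type) (_ : Finite ι) (_ : MulAction G ι) (π : (ι → ℤ) →ₗ[ℤ] B),
      GLat.IsEquivariant (perm (G := G) ι) ρ π ∧ Function.Surjective π ∧
      ∀ (H : Subgroup G) (b : B), (∀ h : H, ρ (h : G) b = b) →
        ∃ p : ι → ℤ, (∀ h : H, perm (G := G) ι (h : G) p = p) ∧ π p = b := by
  have hfix : ∀ H : Subgroup G, ∃ (r : ℕ) (b : Fin r → B), (∀ k (h : H), ρ (h : G) (b k) = b k) ∧
      ∀ x, (∀ h : H, ρ (h : G) x = x) → x ∈ Submodule.span ℤ (Set.range b) := by
    intro H
    let V := Representation.invariants (ρ.comp H.subtype)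
    obtain ⟨r, b, hb⟩ := Submodule.fg_iff_exists_fin_generating_family.1 (IsNoetherian.noetherian V)
    refine ⟨r, b, fun k => ?_, fun x hx => hb ▸ (show x ∈ V from hx)⟩
    have : b k ∈ V := hb ▸ Submodule.subset_span ⟨k, rfl⟩
    exact this
  choose r b hb1 hb2 using hfix
  let ι := Σ H : Subgroup G, (G ⧸ H) × Fin (r H)
  letI act : MulAction G ι :=
    { smul := fun g x => ⟨x.1, g • x.2.1, x.2.2⟩
      one_smul := fun x => by
        show (⟨x.1, (1 : G) • x.2.1, x.2.2⟩ : ι) = x
        rw [one_smul]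
      mul_smul := fun g g' x => by
        show (⟨x.1, (g * g') • x.2.1, x.2.2⟩ : ι) = ⟨x.1, g • g' • x.2.1, x.2.2⟩
        rw [mul_smul] }
  haveI : ∀ H : Subgroup G, Fintype ((G ⧸ H) × Fin (r H)) := fun H => Fintype.ofFinite _
  haveI : Finite ι := inferInstance
  haveI : Fintype ι := Fintype.ofFinite ι
  let v : ι → B := fun x => Quotient.liftOn' x.2.1 (fun g => ρ g (b x.1 x.2.2)) (fun g g' hgg => by
    have hm := QuotientGroup.leftRel_apply.1 hgg
    show ρ g (b x.1 x.2.2) = ρ g' (b x.1 x.2.2)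
    conv_lhs => rw [← hb1 x.1 x.2.2 ⟨_, hm⟩, ← Module.End.mul_apply, ← map_mul, mul_inv_cancel_left])
  let π : (ι → ℤ) →ₗ[ℤ] B := Fintype.linearCombination ℤ v
  have hπ : ∀ x, π (Pi.single x 1) = v x := fun x => by
    simp only [π, Fintype.linearCombination_apply_single, one_smul]
  have hv : ∀ g x, v (g • x) = ρ g (v x) := by
    rintro g ⟨H, q, k⟩
    induction q using QuotientGroup.induction_on with
    | H g' =>
      show ρ (g * g') _ = ρ g (ρ g' _)
      rw [map_mul]; rfl
  have heq : GLat.IsEquivariant (perm (G := G) ι) ρ π := by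
    intro g
    have : π ∘ₗ perm (G := G) ι g = (ρ g) ∘ₗ π := (Pi.basisFun ℤ ι).ext fun x => by
      simp only [LinearMap.comp_apply, Pi.basisFun_apply, perm_single, hπ, hv]
    exact fun m => LinearMap.congr_fun this m
  have hlift : ∀ (H : Subgroup G) (x : B), (∀ h : H, ρ (h : G) x = x) →
      ∃ p : ι → ℤ, (∀ h : H, perm (G := G) ι (h : G) p = p) ∧ π p = x := by
    intro H x hx
    obtain ⟨c, hc⟩ := (Submodule.mem_span_range_iff_exists_fun ℤ).1 (hb2 H x hx)
    refine ⟨∑ k, c k • Pi.single (⟨H, ((1 : G) : G ⧸ H), k⟩ : ι) 1, fun h => ?_, ?_⟩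
    · simp only [map_sum, map_zsmul, perm_single]
      refine Finset.sum_congr rfl fun k _ => ?_
      have : (h : G) • (⟨H, ((1 : G) : G ⧸ H), k⟩ : ι) = ⟨H, ((1 : G) : G ⧸ H), k⟩ := by
        show (⟨H, (h : G) • ((1 : G) : G ⧸ H), k⟩ : ι) = _
        rw [MulAction.Quotient.smul_coe, smul_eq_mul, mul_one]
        rw [show ((h : G) : G ⧸ H) = ((1 : G) : G ⧸ H) from QuotientGroup.eq.2 (by simp [H.inv_mem h.2])]
      rw [this]
    · rw [← hc, map_sum]
      refine Finset.sum_congr rfl fun k _ => ?_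
      rw [map_zsmul, hπ]
      show c k • ρ 1 (b H k) = _
      rw [map_one]; rfl
  refine ⟨ι, inferInstance, act, π, heq, fun x => ?_, hlift⟩
  obtain ⟨p, -, hp⟩ := hlift ⊥ x (fun h => by
    rw [show (h : G) = 1 from Subgroup.mem_bot.1 h.2, map_one]; rfl)
  exact ⟨p, hp⟩

/-- The induced representation on an invariant submodule. -/
def sub {M : Type} [AddCommGroup M] (ρ : Representation ℤ G M) (K : Submodule ℤ M)
    (hK : ∀ g x, x ∈ K → ρ g x ∈ K) : Representation ℤ G K where
  toFun g := (ρ g).restrict (hK g)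
  map_one' := by
    ext x
    show ρ 1 x.1 = x.1
    rw [map_one]; rfl
  map_mul' g h := by
    ext x
    show ρ (g * h) x.1 = ρ g (ρ h x.1)
    rw [map_mul]; rfl

/-- The induced representation on an invariant quotient. -/
def quot {M : Type} [AddCommGroup M] (ρ : Representation ℤ G M) (K : Submodule ℤ M)
    (hK : ∀ g x, x ∈ K → ρ g x ∈ K) : Representation ℤ G (M ⧸ K) where
  toFun g := K.mapQ K (ρ g) (fun x hx => hK g x hx)
  map_one' := by
    refine Submodule.linearMap_qext _ (LinearMap.ext fun x => ?_)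
    show Submodule.Quotient.mk (ρ 1 x) = Submodule.Quotient.mk x
    rw [map_one]; rfl
  map_mul' g h := by
    refine Submodule.linearMap_qext _ (LinearMap.ext fun x => ?_)
    show Submodule.Quotient.mk (ρ (g * h) x) = Submodule.Quotient.mk (ρ g (ρ h x))
    rw [map_mul]; rfl

lemma coflasque_ker {B : Type} [AddCommGroup B] (ρ : Representation ℤ G B) (π : (ι → ℤ) →ₗ[ℤ] B)
    (hK : ∀ g x, x ∈ LinearMap.ker π → perm (G := G) ι g x ∈ LinearMap.ker π) (heq : GLat.IsEquivariant (perm (G := G) ι) ρ π)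
    (hlift : ∀ (H : Subgroup G) (b : B), (∀ h : H, ρ (h : G) b = b) →
        ∃ p : ι → ℤ, (∀ h : H, perm (G := G) ι (h : G) p = p) ∧ π p = b) :
    GLat.IsCoflasque (sub (perm (G := G) ι) (LinearMap.ker π) hK) := by
  intro H f hf
  obtain ⟨p, hp⟩ := coflasque_perm (G := G) (ι := ι) H (fun a => (f a).1) (fun a b => congrArg Subtype.val (hf a b))
  obtain ⟨q, hq, hqp⟩ := hlift H (π p) (fun h => by
    rw [← heq, ← sub_eq_zero, ← map_sub, ← hp h]
    exact (f h).2)
  refine ⟨⟨p - q, by rw [LinearMap.mem_ker, map_sub, hqp, sub_self]⟩, fun a => Subtype.ext ?_⟩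
  show (f a).1 = perm (G := G) ι (a : G) (p - q) - (p - q)
  rw [map_sub, hq, hp a]
  abel

/-- Detection of norms by invariant functionals. -/
theorem mem_norm_of_dvd {A : Type} [AddCommGroup A] [Module.Finite ℤ A] [Module.Free ℤ A]
    (ρ : Representation ℤ G A) (H : Subgroup G) (ψ : A) (hψ : ∀ h : H, ρ (h : G) ψ = ψ)
    (hd : ∀ φ : Module.Dual ℤ A, (∀ h : H, φ ∘ₗ ρ (h : G) = φ) → (Nat.card H : ℤ) ∣ φ ψ) :
    ∃ a : A, ψ = ∑ᶠ h : H, ρ (h : G) a := by
  haveI : Fintype H := Fintype.ofFinite H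
  let V := Representation.invariants (ρ.comp H.subtype)
  let N : A →ₗ[ℤ] A := ∑ h : H, ρ (h : G)
  have hN : ∀ a, N a = ∑ᶠ h : H, ρ (h : G) a := fun a => by simp [N, finsum_eq_sum_of_fintype]
  have hNh : ∀ (h : H) a, N (ρ (h : G) a) = N a := fun h a => by
    simp only [N, LinearMap.sum_apply, ← Module.End.mul_apply, ← map_mul, ← Subgroup.coe_mul]
    exact Equiv.sum_comp (Equiv.mulRight h) (fun k : H => ρ (k : G) a)
  have hNV : ∀ a, N a ∈ V := fun a h => by
    show ρ (h : G) (N a) = N a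
    simp only [N, LinearMap.sum_apply, map_sum, ← Module.End.mul_apply, ← map_mul, ← Subgroup.coe_mul]
    exact Equiv.sum_comp (Equiv.mulLeft h) (fun k : H => ρ (k : G) a)
  let NV : A →ₗ[ℤ] V := N.codRestrict V hNV
  by_contra hne
  push Not at hne
  have hmk : (LinearMap.range NV).mkQ ⟨ψ, hψ⟩ ≠ 0 := by
    rw [Submodule.mkQ_apply, Ne, Submodule.Quotient.mk_eq_zero]
    rintro ⟨a, ha⟩
    exact hne a ((congrArg Subtype.val ha).symm.trans (hN a))
  obtain ⟨χ, hχ⟩ := CharacterModule.exists_character_apply_ne_zero_of_ne_zero hmk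
  haveI : Module.Finite ℤ V := Module.Finite.iff_fg.2 (IsNoetherian.noetherian V)
  let bV := Module.Free.chooseBasis ℤ V
  choose L₀ hL₀ using fun i => QuotientAddGroup.mk_surjective (χ ((LinearMap.range NV).mkQ (bV i)))
  let L : V →ₗ[ℤ] ℚ := bV.constr ℤ L₀
  let qℚ : ℚ →+ AddCircle (1 : ℚ) := QuotientAddGroup.mk' _
  have hL : ∀ v, qℚ (L v) = χ ((LinearMap.range NV).mkQ v) := by
    have : qℚ.toIntLinearMap ∘ₗ L = (AddMonoidHom.toIntLinearMap χ) ∘ₗ (LinearMap.range NV).mkQ :=
      bV.ext fun i => by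
        show qℚ (L (bV i)) = χ ((LinearMap.range NV).mkQ (bV i))
        simp only [L, Module.Basis.constr_basis]
        exact hL₀ i
    exact fun v => LinearMap.congr_fun this v
  have hint : ∀ a, ∃ z : ℤ, (z : ℚ) = L (NV a) := fun a => by
    have h := hL (NV a)
    rw [show (LinearMap.range NV).mkQ (NV a) = 0 from (Submodule.Quotient.mk_eq_zero _).2 ⟨a, rfl⟩, map_zero] at h
    obtain ⟨z, hz⟩ := AddCircle.coe_eq_zero_iff (1 : ℚ) |>.1 h
    exact ⟨z, by simpa using hz⟩
  choose φ hφ using hint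
  let φ' : Module.Dual ℤ A := AddMonoidHom.toIntLinearMap
    { toFun := φ
      map_zero' := by exact_mod_cast show ((φ 0 : ℤ) : ℚ) = 0 by rw [hφ, map_zero, map_zero]
      map_add' := fun a a' => by
        have : ((φ (a + a') : ℤ) : ℚ) = ((φ a + φ a' : ℤ) : ℚ) := by push_cast; rw [hφ, hφ, hφ, map_add, map_add]
        exact_mod_cast this }
  obtain ⟨c, hc⟩ := hd φ' (fun h => LinearMap.ext fun a => by
    show φ (ρ (h : G) a) = φ a
    have : ((φ (ρ (h : G) a) : ℤ) : ℚ) = φ a := by
      rw [hφ, hφ, show NV (ρ (h : G) a) = NV a from Subtype.ext (hNh h a)]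
    exact_mod_cast this)
  apply hχ
  rw [← hL]
  have hψN : NV ψ = (Nat.card H : ℤ) • (⟨ψ, hψ⟩ : V) := by
    refine Subtype.ext ?_
    show N ψ = (Nat.card H : ℤ) • ψ
    simp only [N, LinearMap.sum_apply, hψ, Finset.sum_const, Finset.card_univ, Nat.card_eq_fintype_card]
    rw [natCast_zsmul]
  have h1 : ((φ ψ : ℤ) : ℚ) = (Nat.card H : ℚ) * L ⟨ψ, hψ⟩ := by
    rw [hφ, hψN, map_zsmul, zsmul_eq_mul]; push_cast; ring
  have h2 : φ ψ = (Nat.card H : ℤ) * c := hc
  rw [h2] at h1
  push_cast at h1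
  have h3 : L ⟨ψ, hψ⟩ = (c : ℚ) := (mul_left_cancel₀ (by exact_mod_cast Nat.card_pos.ne') h1).symm
  rw [h3]
  exact AddCircle.coe_eq_zero_iff (1 : ℚ) |>.2 ⟨c, by simp⟩

/-- The flasque resolution of a lattice. -/
theorem exists_flasque_res {A : Type} [AddCommGroup A] [Module.Finite ℤ A] [Module.Free ℤ A]
    (ρ : Representation ℤ G A) :
    ∃ (ι : Type) (_ : Finite ι) (_ : MulAction G ι) (i : A →ₗ[ℤ] (ι → ℤ))
      (hK : ∀ g x, x ∈ LinearMap.range i → perm (G := G) ι g x ∈ LinearMap.range i),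
      GLat.IsEquivariant ρ (perm (G := G) ι) i ∧ Function.Injective i ∧
      Module.Free ℤ ((ι → ℤ) ⧸ LinearMap.range i) ∧
      GLat.IsFlasque (quot (perm (G := G) ι) (LinearMap.range i) hK) := by
  obtain ⟨ι, hfin, act, π, heq, hsur, hlift⟩ := exists_cover ρ.dual
  haveI : Fintype ι := Fintype.ofFinite ι
  let i : A →ₗ[ℤ] (ι → ℤ) := LinearMap.pi fun j => (π (Pi.single j 1) : Module.Dual ℤ A)
  have hi : ∀ a j, i a j = π (Pi.single j 1) a := fun a j => rfl
  have hie : GLat.IsEquivariant ρ (perm (G := G) ι) i := fun g a => funext fun j => by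
    rw [perm_apply, hi, hi, ← perm_single, heq]
    simp [Representation.dual]
  have hpair : ∀ (p : ι → ℤ) a, π p a = ∑ j, p j * i a j := fun p a => by
    conv_lhs => rw [pi_eq_sum_univ' p]
    simp only [map_sum, map_zsmul, LinearMap.sum_apply, LinearMap.smul_apply, hi, smul_eq_mul]
  obtain ⟨s, hs⟩ := LinearMap.exists_rightInverse_of_surjective π (LinearMap.range_eq_top.2 hsur)
  let E : (ι → ℤ) →ₗ[ℤ] Module.Dual ℤ (Module.Dual ℤ A) :=
    LinearMap.mk₂ ℤ (fun x φ => ∑ j, s φ j * x j) (fun x y φ => by simp [mul_add, Finset.sum_add_distrib])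
      (fun c x φ => by simp [Finset.mul_sum, mul_left_comm]) (fun x φ φ' => by simp [add_mul, Finset.sum_add_distrib])
      (fun c x φ => by simp [Finset.mul_sum, mul_assoc])
  let rr : (ι → ℤ) →ₗ[ℤ] A := (Module.evalEquiv ℤ A).symm.toLinearMap ∘ₗ E
  have hrr : ∀ a, rr (i a) = a := fun a => by
    apply (Module.evalEquiv ℤ A).injective
    show Module.evalEquiv ℤ A ((Module.evalEquiv ℤ A).symm (E (i a))) = _
    rw [LinearEquiv.apply_symm_apply]
    ext φ
    show ∑ j, s φ j * i a j = φ a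
    rw [← hpair, ← LinearMap.comp_apply π s, hs]; rfl
  have hinj : Function.Injective i := Function.LeftInverse.injective hrr
  have hK : ∀ g x, x ∈ LinearMap.range i → perm (G := G) ι g x ∈ LinearMap.range i := by
    rintro g _ ⟨a, rfl⟩
    exact ⟨ρ g a, hie g a⟩
  have hcompl : IsCompl (LinearMap.range i) (LinearMap.ker rr) := by
    refine ⟨Submodule.disjoint_def.2 ?_, codisjoint_iff.2 (eq_top_iff.2 fun x _ => ?_)⟩
    · rintro _ ⟨a, rfl⟩ h
      rw [LinearMap.mem_ker, hrr] at h
      rw [h, map_zero]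
    · refine Submodule.mem_sup.2 ⟨i (rr x), LinearMap.mem_range_self _ _, x - i (rr x), ?_, add_sub_cancel _ _⟩
      rw [LinearMap.mem_ker, map_sub, hrr, sub_self]
  refine ⟨ι, hfin, act, i, hK, hie, hinj, Module.Free.of_equiv (Submodule.quotientEquivOfIsCompl _ _ hcompl).symm, ?_⟩
  intro H m hm
  haveI : Fintype H := Fintype.ofFinite H
  obtain ⟨Φ, rfl⟩ := Submodule.mkQ_surjective _ m
  rw [finsum_eq_sum_of_fintype] at hm
  have hmem : ∑ h : H, perm (G := G) ι (h : G) Φ ∈ LinearMap.range i := by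
    rw [← Submodule.Quotient.mk_eq_zero, ← hm]
    exact map_sum (LinearMap.range i).mkQ _ _
  obtain ⟨ψ, hψ⟩ := hmem
  have hψH : ∀ h : H, ρ (h : G) ψ = ψ := fun h => hinj (by
    rw [hie, hψ, map_sum]
    simp only [← Module.End.mul_apply, ← map_mul, ← Subgroup.coe_mul]
    exact Equiv.sum_comp (Equiv.mulLeft h) (fun k : H => perm (G := G) ι (k : G) Φ))
  obtain ⟨a, ha⟩ := mem_norm_of_dvd ρ H ψ hψH (fun φ hφ => by
    obtain ⟨p, hp, hpφ⟩ := hlift H φ (fun h => by
      show φ ∘ₗ ρ (h : G)⁻¹ = φ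
      exact hφ h⁻¹)
    refine ⟨∑ j, p j * Φ j, ?_⟩
    rw [← hpφ, hpair, hψ]
    simp only [Finset.sum_apply, perm_apply, Finset.mul_sum]
    rw [Finset.sum_comm]
    have : ∀ h : H, ∑ j, p j * Φ ((h : G)⁻¹ • j) = ∑ j, p j * Φ j := fun h => by
      rw [← Equiv.sum_comp (MulAction.toPerm (h : G)) (fun j => p j * Φ ((h : G)⁻¹ • j))]
      refine Finset.sum_congr rfl fun j _ => ?_
      have := congrFun (hp h) ((h : G) • j)
      rw [perm_apply, inv_smul_smul] at this
      simp [this.symm]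
    simp [this, Nat.card_eq_fintype_card, Finset.mul_sum])
  have hΦ' : ∑ᶠ h : H, perm (G := G) ι (h : G) (Φ - i a) = 0 := by
    rw [finsum_eq_sum_of_fintype] at ha ⊢
    have hie' : ∀ g a, perm (G := G) ι g (i a) = i (ρ g a) := fun g a => (hie g a).symm
    simp only [map_sub, Finset.sum_sub_distrib, hie', ← map_sum, ← hψ, ← ha, sub_self]
  have := flasque_perm H (Φ - i a) hΦ'
  have h2 := Submodule.mem_map_of_mem (f := (LinearMap.range i).mkQ) this
  rw [map_sub, show (LinearMap.range i).mkQ (i a) = 0 from (Submodule.Quotient.mk_eq_zero _).2 ⟨a, rfl⟩, sub_zero,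
    Submodule.map_span] at h2
  refine Submodule.span_mono ?_ h2
  rintro _ ⟨_, ⟨h, y, rfl⟩, rfl⟩
  exact ⟨h, (LinearMap.range i).mkQ y, by rw [map_sub]; rfl⟩

end

end Groth.Agent.GLatRes
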